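import Cfsg.Agent.Spor.HND.V.D0

set_option autoImplicit false
set_option maxRecDepth 100000000
set_option Elab.async false

namespace Cfsg.Agent.Spor.HND.V

theorem gr2 : sub (ones 1408) (U.growI W1 [0, 2, 1, 0, 0, 1, 2, 1, 0, 0, 1, 2, 1, 0, 0, 1, 2, 1, 0, 0, 1, 2] (Nat.shiftLeft 1 0)) = true := by decide +kernel

theorem cl4 : band (U.closedW W1 (ones 1408)) (sub (Nat.shiftLeft 1 0) (ones 1408)) = true := by decide +kernel

theorem sz5 : sizeOk 11 (ones 1408) 1408 = true := by decide +kernel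

theorem fx8 : U.closedW W7 (Nat.shiftLeft 1 0) = true := by decide +kernel

theorem okL : HNG.D.okL 696 [65, 77] [[2, 0, 2, 0, 3, 3, 0, 2, 0, 2, 2, 0, 3, 3, 0, 3, 1, 2, 1, 2], [3, 3, 0, 2, 2, 0, 2, 0, 2, 2, 0, 3, 3, 0, 2, 2, 1, 2]] = true := by decide +kernel

theorem okS0 : HNG.D.okS 696 0 [7, 6, 8] [[0], [2], [4]] = true := by decide +kernel

theorem okS1 : HNG.D.okS 696 1 [65, 77] [[3, 0, 3, 0, 2, 0, 2, 2, 0, 3, 3, 0, 3, 0, 2, 2, 1, 3, 1, 3], [3, 0, 3, 3, 0, 2, 2, 0, 3, 3, 0, 3, 0, 3, 3, 1, 2, 2]] = true := by decide +kernel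

theorem ed10a : lall (HNG.D.okEd 696 1 J) ed10 = true := by decide +kernel

theorem ed10b : band (lall (fun e => lall (fun y => Nat.blt y (2 * 3)) e.w) ed10) (sub M11 (edMask (U.pls 11 (2 * 3) 0) ed10)) = true := by decide +kernel

theorem gr12 : sub (ones 1408) (U.growI W9 [0, 1, 1, 0, 0, 1, 1, 0, 0, 1, 1, 0, 0, 1, 1, 0, 0, 1] M11) = true := by decide +kernel

theorem loop1 : HNG.D.loop 696 1 80 = true := by decide +kernel

theorem okS2 : HNG.D.okS 696 2 [351, 353] [[0, 2, 0, 2, 0, 3, 0, 3, 3, 0, 2, 2, 4, 2, 0, 2, 1], [3, 3, 4, 2, 0, 2, 0, 3, 4, 3, 3, 4, 0, 3, 0, 3, 1]] = true := by decide +kernel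

theorem ed14a : lall (HNG.D.okEd 696 2 J) ed14 = true := by decide +kernel

theorem ed14b : band (lall (fun e => lall (fun y => Nat.blt y (2 * 3)) e.w) ed14) (sub M15 (edMask (U.pls 11 (2 * 3) 0) ed14)) = true := by decide +kernel

theorem gr16 : sub (ones 1408) (U.growI W13 [0, 1, 1, 0, 0, 1, 1, 0, 0, 1, 1, 0, 0, 1, 1, 0, 0, 1, 1] M15) = true := by decide +kernel

theorem okS3 : HNG.D.okS 696 3 [409, 411] [[4, 2, 1, 2, 0, 3, 0, 3, 0, 2, 0, 2, 0, 2, 2, 1, 3], [4, 1, 3, 3, 0, 2, 0, 2, 4, 0, 2, 2, 4, 2, 2, 5, 2, 2]] = true := by decide +kernel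

theorem ed18a : lall (HNG.D.okEd 696 3 J) ed18 = true := by decide +kernel

theorem ed18b : band (lall (fun e => lall (fun y => Nat.blt y (2 * 3)) e.w) ed18) (sub M19 (edMask (U.pls 11 (2 * 3) 0) ed18)) = true := by decide +kernel

theorem gr20 : sub (ones 1408) (U.growI W17 [0, 1, 1, 0, 0, 1, 1, 0, 0, 1, 1, 0, 0, 1, 1, 0, 0, 1, 1, 0, 0, 1] M19) = true := by decide +kernel

theorem loop3 : HNG.D.loop 696 3 415 = true := by decide +kernel

theorem okS5 : HNG.D.okS 696 5 [511, 512] [[3, 3, 0, 3, 3, 4, 3, 4, 2, 4, 2, 0, 3, 3, 0, 3, 3, 1, 2, 2], [3, 4, 2, 4, 2, 2, 2, 0, 3, 0, 2, 0, 2, 2, 5, 3, 3, 1, 3]] = true := by decide +kernel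

theorem ed22a : lall (HNG.D.okEd 696 5 J) ed22 = true := by decide +kernel

theorem ed22b : band (lall (fun e => lall (fun y => Nat.blt y (2 * 3)) e.w) ed22) (sub M23 (edMask (U.pls 11 (2 * 3) 0) ed22)) = true := by decide +kernel

theorem gr24 : sub (ones 1408) (U.growI W21 [0, 1, 1, 0, 0, 1, 1, 0, 0, 1, 1, 0, 0, 1, 1, 0, 0] M23) = true := by decide +kernel

theorem loop5 : HNG.D.loop 696 5 515 = true := by decide +kernel

theorem okS6 : HNG.D.okS 696 6 [545, 546] [[4, 3, 4, 2, 2, 4, 2, 2, 1, 2, 4, 2, 2, 4, 3], [3, 3, 0, 2, 2, 0, 3, 3, 0, 3, 3, 0, 3, 3, 0, 3, 3, 1, 2]] = true := by decide +kernel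

theorem ed26a : lall (HNG.D.okEd 696 6 J) ed26 = true := by decide +kernel

theorem ed26b : band (lall (fun e => lall (fun y => Nat.blt y (2 * 3)) e.w) ed26) (sub M27 (edMask (U.pls 11 (2 * 3) 0) ed26)) = true := by decide +kernel

theorem gr28 : sub (ones 1408) (U.growI W25 [0, 1, 1, 0, 0, 1, 1, 0, 0, 1, 1, 0, 0, 1, 1, 0, 0, 1, 1, 0, 0, 1, 1, 0] M27) = true := by decide +kernel

theorem loop6 : HNG.D.loop 696 6 548 = true := by decide +kernel

theorem okS7 : HNG.D.okS 696 7 [603, 607] [[3, 0, 3, 4, 3, 0, 3, 3, 0, 3, 0, 3, 0, 3], [3, 1, 3, 3, 0, 2, 2]] = true := by decide +kernel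

theorem ed30a : lall (HNG.D.okEd 696 7 J) ed30 = true := by decide +kernel

theorem ed30b : band (lall (fun e => lall (fun y => Nat.blt y (2 * 3)) e.w) ed30) (sub M31 (edMask (U.pls 11 (2 * 3) 0) ed30)) = true := by decide +kernel

theorem gr32 : sub (ones 1408) (U.growI W29 [0, 1, 1, 0, 0, 1, 1, 0, 0, 1, 1, 0, 0, 1] M31) = true := by decide +kernel

theorem loop7 : HNG.D.loop 696 7 610 = true := by decide +kernel

theorem okS8 : HNG.D.okS 696 8 [649, 659] [[2, 2, 4, 2, 2, 0, 3, 3, 4, 3, 3, 4, 0, 2, 2, 1, 2, 2, 1, 3, 3, 5, 3, 3], [4, 3, 1, 2, 0, 2, 4, 2, 4, 2, 0, 2, 4, 3, 5, 3, 3, 1, 2, 2]] = true := by decide +kernel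

theorem ed34a : lall (HNG.D.okEd 696 8 J) ed34 = true := by decide +kernel

theorem ed34b : band (lall (fun e => lall (fun y => Nat.blt y (2 * 3)) e.w) ed34) (sub M35 (edMask (U.pls 11 (2 * 3) 0) ed34)) = true := by decide +kernel

theorem gr36 : sub (ones 1408) (U.growI W33 [0, 1, 1, 0, 1, 1, 0, 1, 1, 0, 1, 1, 0, 1, 1, 0, 1, 1, 0, 1, 1, 1] M35) = true := by decide +kernel

theorem loop8 : HNG.D.loop 696 8 660 = true := by decide +kernel

theorem okS9 : HNG.D.okS 696 9 [681, 693] [[2, 4, 2, 4, 2, 4, 2, 2, 4, 3, 3, 4, 3, 4, 2, 5, 2, 0, 3], [1, 2, 4, 2, 0, 2, 0, 2, 4, 2, 0, 2, 2, 0, 3, 3, 5, 3, 5]] = true := by decide +kernel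

theorem ed38a : lall (HNG.D.okEd 696 9 J) ed38 = true := by decide +kernel

theorem ed38b : band (lall (fun e => lall (fun y => Nat.blt y (2 * 3)) e.w) ed38) (sub M39 (edMask (U.pls 11 (2 * 3) 0) ed38)) = true := by decide +kernel

theorem gr40 : sub (ones 1408) (U.growI W37 [0, 1, 1, 0, 0, 1, 1, 0, 0, 1, 1, 0, 0, 1, 1, 0, 0, 1, 1, 0] M39) = true := by decide +kernel

theorem loop9 : HNG.D.loop 696 9 694 = true := by decide +kernel

theorem rinv : band (Nat.blt 3 696) ((HNG.D.fc 3).onR fun r => onCons r fun _ r' => onCons r' fun _ => isNil) = true := by decide +kernel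

end Cfsg.Agent.Spor.HND.V
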