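import Cfsg.Agent.Spor.Prim
import Cfsg.Agent.Spor.HND.Main
import Cfsg.Agent.Spor.HND.V.C0
import Cfsg.Agent.Spor.HNP.VB.Main
import Cfsg.Agent.Spor.HNG.Main

set_option autoImplicit false
set_option maxRecDepth 100000000
set_option Elab.async false

namespace Cfsg.Agent.Spor.HND.V

theorem hU : U.Ok 11 := U.ok_of 11 (show AllP (fun n => Net.okb 11 n = true) [n0, n1, n2] from AllP.cons ok0 (AllP.cons ok1 (AllP.cons ok2 (AllP.nil))))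

theorem hfP : ∀ j < 3, U.fP [1, 3, 5] j = fP j := by
  intro j hj
  interval_cases j <;> rfl
theorem eG : gsub 3 fP = U.lsub W1 := (gsub_congr hfP).symm.trans (lsub_eq_gsub U [1, 3, 5])
theorem hom : ∃ φ : HNP.P →* Equiv.Perm ℕ, ∀ j < 3, φ (HNP.p j) = fP j :=
  HNP.bound.exists_hom (by norm_num) HNP.pres pres HNP.lbP
noncomputable def φ : HNP.P →* Equiv.Perm ℕ := hom.choose
theorem hφ : ∀ j < 3, φ (HNP.p j) = fP j := hom.choose_spec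
theorem link : U.Link φ (atm 3 HNP.p) (2 * 3) :=
  Tab.Link.of (fun j hj => (hφ j hj).trans (by interval_cases j <;> rfl)) (by decide +kernel)
def LW : List (List Nat) := [[2, 0, 2, 0, 3, 3, 0, 2, 0, 2, 2, 0, 3, 3, 0, 3, 1, 2, 1, 2], [3, 3, 0, 2, 2, 0, 2, 0, 2, 2, 0, 3, 3, 0, 2, 2, 1, 2]]
theorem reach3 : Reach (U.lsub W1) 0 (ones 1408) := (Reach.grow hU (Reach.base _ 0) gr2)
theorem orb6 : (orbS (U.lsub W1) 0).ncard = 1408 := reach3.ncard hU cl4 sz5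
theorem orb6e : orbS (U.lsub W1) 0 = {c | Nat.testBit (ones 1408) c = true} := reach3.orb hU cl4
theorem act : CosetAct (wsub 3 HNP.p LW) φ 1408 :=
  CosetAct.of_count (link.fix hU (W := W7) (by decide +kernel) (hU.fixes fx8))
    (by rw [range_eq_gsub hφ (gsub_lift 3 _), eG]; exact orb6e) HNP.VB.cardL HNP.cardP
section
variable {R : Type} [CommRing R] {G : Type} [Group G] {Y : DCtx HNG.D R HNP.P G}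
  (hu : Y.Upto 696) (hg : Y.X.Gens HNG.TT (atm 3 HNP.p))
include hu hg

theorem env : Y.Env 696 3 HNP.p φ 1408 U 11 :=
  ⟨hu, HNG.one, hg, ⟨_, act, hu.okL HNG.one hg okL⟩, hU, link⟩
theorem cos0 : Y.CosOk 3 HNP.p J (0, [[0], [2], [4]], 177408000) :=
  DCtx.cos_zero hu HNG.one hg (gsub_lift 3 _) HNP.cardP okS0 (by decide +kernel)
theorem hW1 : U.lsub W9 ≤ (Y.stabS (Y.sym 1)).map φ := (env hu hg).hW okS1 (by decide +kernel)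
theorem cos1 : Y.CosOk 3 HNP.p J (1, [[3, 0, 3, 0, 2, 0, 2, 2, 0, 3, 3, 0, 3, 0, 2, 2, 1, 3, 1, 3], [3, 0, 3, 3, 0, 2, 2, 0, 3, 3, 0, 3, 0, 3, 3, 1, 2, 2]], 126000) :=
  (env hu hg).cos okS1 HNP.VB.cardS1 (((env hu hg).edges ed10a ed10b).grow hU (hW1 hu hg) gr12)
theorem hW2 : U.lsub W13 ≤ (Y.stabS (Y.sym 2)).map φ := (env hu hg).hW okS2 (by decide +kernel)
theorem cos2 : Y.CosOk 3 HNP.p J (2, [[0, 2, 0, 2, 0, 3, 0, 3, 3, 0, 2, 2, 4, 2, 0, 2, 1], [3, 3, 4, 2, 0, 2, 0, 3, 4, 3, 3, 4, 0, 3, 0, 3, 1]], 80640) :=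
  (env hu hg).cos okS2 HNP.VB.cardS2 (((env hu hg).edges ed14a ed14b).grow hU (hW2 hu hg) gr16)
theorem hW3 : U.lsub W17 ≤ (Y.stabS (Y.sym 3)).map φ := (env hu hg).hW okS3 (by decide +kernel)
theorem cos3 : Y.CosOk 3 HNP.p J (3, [[4, 2, 1, 2, 0, 3, 0, 3, 0, 2, 0, 2, 0, 2, 2, 1, 3], [4, 1, 3, 3, 0, 2, 0, 2, 4, 0, 2, 2, 4, 2, 2, 5, 2, 2]], 5040) :=
  (env hu hg).cos okS3 HNP.VB.cardS3 (((env hu hg).edges ed18a ed18b).grow hU (hW3 hu hg) gr20)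
theorem hW5 : U.lsub W21 ≤ (Y.stabS (Y.sym 5)).map φ := (env hu hg).hW okS5 (by decide +kernel)
theorem cos5 : Y.CosOk 3 HNP.p J (5, [[3, 3, 0, 3, 3, 4, 3, 4, 2, 4, 2, 0, 3, 3, 0, 3, 3, 1, 2, 2], [3, 4, 2, 4, 2, 2, 2, 0, 3, 0, 2, 0, 2, 2, 5, 3, 3, 1, 3]], 1440) :=
  (env hu hg).cos okS5 HNP.VB.cardS5 (((env hu hg).edges ed22a ed22b).grow hU (hW5 hu hg) gr24)
theorem hW6 : U.lsub W25 ≤ (Y.stabS (Y.sym 6)).map φ := (env hu hg).hW okS6 (by decide +kernel)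
theorem cos6 : Y.CosOk 3 HNP.p J (6, [[4, 3, 4, 2, 2, 4, 2, 2, 1, 2, 4, 2, 2, 4, 3], [3, 3, 0, 2, 2, 0, 3, 3, 0, 3, 3, 0, 3, 3, 0, 3, 3, 1, 2]], 500) :=
  (env hu hg).cos okS6 HNP.VB.cardS6 (((env hu hg).edges ed26a ed26b).grow hU (hW6 hu hg) gr28)
theorem hW7 : U.lsub W29 ≤ (Y.stabS (Y.sym 7)).map φ := (env hu hg).hW okS7 (by decide +kernel)
theorem cos7 : Y.CosOk 3 HNP.p J (7, [[3, 0, 3, 4, 3, 0, 3, 3, 0, 3, 0, 3, 0, 3], [3, 1, 3, 3, 0, 2, 2]], 240) :=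
  (env hu hg).cos okS7 HNP.VB.cardS7 (((env hu hg).edges ed30a ed30b).grow hU (hW7 hu hg) gr32)
theorem hW8 : U.lsub W33 ≤ (Y.stabS (Y.sym 8)).map φ := (env hu hg).hW okS8 (by decide +kernel)
theorem cos8 : Y.CosOk 3 HNP.p J (8, [[2, 2, 4, 2, 2, 0, 3, 3, 4, 3, 3, 4, 0, 2, 2, 1, 2, 2, 1, 3, 3, 5, 3, 3], [4, 3, 1, 2, 0, 2, 4, 2, 4, 2, 0, 2, 4, 3, 5, 3, 3, 1, 2, 2]], 640) :=
  (env hu hg).cos okS8 HNP.VB.cardS8 (((env hu hg).edges ed34a ed34b).grow hU (hW8 hu hg) gr36)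
theorem hW9 : U.lsub W37 ≤ (Y.stabS (Y.sym 9)).map φ := (env hu hg).hW okS9 (by decide +kernel)
theorem cos9 : Y.CosOk 3 HNP.p J (9, [[2, 4, 2, 4, 2, 4, 2, 2, 4, 3, 3, 4, 3, 4, 2, 5, 2, 0, 3], [1, 2, 4, 2, 0, 2, 0, 2, 4, 2, 0, 2, 2, 0, 3, 3, 5, 3, 5]], 30720) :=
  (env hu hg).cos okS9 HNP.VB.cardS9 (((env hu hg).edges ed38a ed38b).grow hU (hW9 hu hg) gr40)
theorem done : Y.Done 3 HNP.p CL 177408000 1539000 :=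
  ⟨HNP.cardP, by norm_num, show AllP (Y.CosOk 3 HNP.p J) [(0, [[0], [2], [4]], 177408000), (1, [[3, 0, 3, 0, 2, 0, 2, 2, 0, 3, 3, 0, 3, 0, 2, 2, 1, 3, 1, 3], [3, 0, 3, 3, 0, 2, 2, 0, 3, 3, 0, 3, 0, 3, 3, 1, 2, 2]], 126000), (2, [[0, 2, 0, 2, 0, 3, 0, 3, 3, 0, 2, 2, 4, 2, 0, 2, 1], [3, 3, 4, 2, 0, 2, 0, 3, 4, 3, 3, 4, 0, 3, 0, 3, 1]], 80640), (3, [[4, 2, 1, 2, 0, 3, 0, 3, 0, 2, 0, 2, 0, 2, 2, 1, 3], [4, 1, 3, 3, 0, 2, 0, 2, 4, 0, 2, 2, 4, 2, 2, 5, 2, 2]], 5040), (5, [[3, 3, 0, 3, 3, 4, 3, 4, 2, 4, 2, 0, 3, 3, 0, 3, 3, 1, 2, 2], [3, 4, 2, 4, 2, 2, 2, 0, 3, 0, 2, 0, 2, 2, 5, 3, 3, 1, 3]], 1440), (6, [[4, 3, 4, 2, 2, 4, 2, 2, 1, 2, 4, 2, 2, 4, 3], [3, 3, 0, 2, 2, 0, 3, 3, 0, 3, 3, 0, 3, 3, 0, 3, 3, 1, 2]], 500), (7, [[3, 0, 3, 4, 3, 0, 3, 3, 0, 3, 0, 3, 0, 3], [3, 1, 3, 3, 0, 2, 2]], 240), (8,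 [[2, 2, 4, 2, 2, 0, 3, 3, 4, 3, 3, 4, 0, 2, 2, 1, 2, 2, 1, 3, 3, 5, 3, 3], [4, 3, 1, 2, 0, 2, 4, 2, 4, 2, 0, 2, 4, 3, 5, 3, 3, 1, 2, 2]], 640), (9, [[2, 4, 2, 4, 2, 4, 2, 2, 4, 3, 3, 4, 3, 4, 2, 5, 2, 0, 3], [1, 2, 4, 2, 0, 2, 0, 2, 4, 2, 0, 2, 2, 0, 3, 3, 5, 3, 5]], 30720)] from AllP.cons (cos0 hu hg) (AllP.cons (cos1 hu hg) (AllP.cons (cos2 hu hg) (AllP.cons (cos3 hu hg) (AllP.cons (cos5 hu hg) (AllP.cons (cos6 hu hg) (AllP.cons (cos7 hu hg) (AllP.cons (cos8 hu hg) (AllP.cons (cos9 hu hg) (AllP.nil))))))))), hu.rinv rinv, by decide +kernel⟩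
end

end Cfsg.Agent.Spor.HND.V
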